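import Cfsg.Agent.Lib.CosetEnum.Table
import Cfsg.Prelude.Def_Spor_J4

/-!
Words in two elements satisfying the seven relations of `x`, `y` in the presented group `J4`.
-/

set_option autoImplicit false

namespace CfsgLib.J4M24

open CfsgLib.CosetEnum

variable {G : Type} [Group G]

/-- Letters: `0` is `a`, `1` is `b`, `2` is the inverse of `b`. -/
def g0 (a b : G) : ℕ → G
  | 0 => a
  | 1 => b
  | 2 => b⁻¹
  | _ => 1

/-- The inverse letters. -/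
def ip0 : ℕ := 0xfedcba9876543120

/-- Repeat a word. -/
def rep' (n : ℕ) (w : List ℕ) : List ℕ := (List.replicate n w).flatten

/-- The seven relators in `x` and `y`. -/
def rels : List (List ℕ) :=
  [[0, 0], [1, 1, 1], rep' 23 [0, 1], rep' 12 [0, 2, 0, 1], rep' 5 [0, 2, 0, 2, 0, 1, 0, 1],
    rep' 4 ([0, 1] ++ rep' 3 [0, 1, 0, 2]), rep' 3 [0, 1, 0, 1, 0, 2] ++ rep' 3 [0, 1, 0, 2, 0, 2]]

/-- The value of a word. -/
def wd (a b : G) (w : List ℕ) : G := (w.map (g0 a b)).prod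

/-- The two elements satisfy the seven relations. -/
def Rel (a b : G) : Prop := ∀ w ∈ rels, wd a b w = 1

variable {a b : G}

theorem wd_nil : wd a b [] = 1 := rfl

theorem wd_append (u v : List ℕ) : wd a b (u ++ v) = wd a b u * wd a b v := by
  simp [wd]

theorem wd_rep (n : ℕ) (w : List ℕ) : wd a b (rep' n w) = wd a b w ^ n := by
  induction n with
  | zero => simp [rep', wd]
  | succ n ih =>
    rw [pow_succ', ← ih, ← wd_append]
    simp [rep', List.replicate_succ]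

theorem hinv0 (hr : Rel a b) : ∀ x < 16, g0 a b (linv ip0 x) = (g0 a b x)⁻¹ := by
  have h : a * a = 1 := by simpa [wd, g0] using hr [0, 0] (by simp [rels])
  intro x hx
  interval_cases x <;> simp [linv, ip0, g0, inv_eq_of_mul_eq_one_left h]

theorem wd_invWord (hr : Rel a b) (w : List ℕ) (hw : ∀ i ∈ w, i < 16) :
    wd a b (invWord ip0 w) = (wd a b w)⁻¹ :=
  prod_invWord (hinv0 hr) w hw

/-- The presented group. -/
abbrev J : Type := Cfsg.Spor.J4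

/-- The generator `x`. -/
def gx : J := PresentedGroup.mk _ Cfsg.Spor.J4.x

/-- The generator `y`. -/
def gy : J := PresentedGroup.mk _ Cfsg.Spor.J4.y

theorem extra_one {r : FreeGroup Cfsg.Spor.J4.Gen} (h : r ∈ Cfsg.Spor.J4.extra) :
    (PresentedGroup.mk _ r : J) = 1 :=
  PresentedGroup.one_of_mem (Or.inr h)

theorem gx_inv : gx⁻¹ = gx := by
  have h := extra_one (r := Cfsg.Spor.J4.x ^ 2) (by simp [Cfsg.Spor.J4.extra])
  rw [map_pow, pow_two] at h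
  exact inv_eq_of_mul_eq_one_left h

theorem rel_J4 : Rel gx gy := by
  have e : ∀ {r : FreeGroup Cfsg.Spor.J4.Gen} (w : List ℕ), r ∈ Cfsg.Spor.J4.extra →
      wd gx gy w = PresentedGroup.mk _ r → wd gx gy w = 1 := fun w h h' => h'.trans (extra_one h)
  have hx : (PresentedGroup.mk _ Cfsg.Spor.J4.x : J) = gx := rfl
  have hy : (PresentedGroup.mk _ Cfsg.Spor.J4.y : J) = gy := rfl
  intro w hw
  simp only [rels, List.mem_cons, List.not_mem_nil, or_false] at hw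
  rcases hw with rfl | rfl | rfl | rfl | rfl | rfl | rfl
  · refine e _ (r := Cfsg.Spor.J4.x ^ 2) (by simp [Cfsg.Spor.J4.extra]) ?_
    simp [wd, g0, pow_two, hx]
  · refine e _ (r := Cfsg.Spor.J4.y ^ 3) (by simp [Cfsg.Spor.J4.extra]) ?_
    simp [wd, g0, pow_succ, hy, mul_assoc]
  · refine e _ (r := (Cfsg.Spor.J4.x * Cfsg.Spor.J4.y) ^ 23) (by simp [Cfsg.Spor.J4.extra]) ?_
    rw [wd_rep, map_pow, map_mul, hx, hy]
    simp [wd, g0]
  · refine e _ (r := (Cfsg.Spor.J4.x⁻¹ * Cfsg.Spor.J4.y⁻¹ * Cfsg.Spor.J4.x * Cfsg.Spor.J4.y) ^ 12)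
      (by simp [Cfsg.Spor.J4.extra]) ?_
    rw [wd_rep, map_pow]
    simp [wd, g0, hx, hy, gx_inv, mul_assoc]
  · refine e _ (r := (Cfsg.Spor.J4.x⁻¹ * (Cfsg.Spor.J4.y * Cfsg.Spor.J4.x * Cfsg.Spor.J4.y)⁻¹ * Cfsg.Spor.J4.x *
      (Cfsg.Spor.J4.y * Cfsg.Spor.J4.x * Cfsg.Spor.J4.y)) ^ 5) (by simp [Cfsg.Spor.J4.extra]) ?_
    rw [wd_rep, map_pow]
    simp [wd, g0, hx, hy, gx_inv, mul_assoc]
  · refine e _ (r := (Cfsg.Spor.J4.x * Cfsg.Spor.J4.y *
      ((Cfsg.Spor.J4.x * Cfsg.Spor.J4.y * Cfsg.Spor.J4.x * (Cfsg.Spor.J4.y⁻¹)) ^ 3)) ^ 4)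
      (by simp [Cfsg.Spor.J4.extra]) ?_
    rw [wd_rep, wd_append, wd_rep, map_pow, map_mul, map_pow]
    simp [wd, g0, hx, hy, mul_assoc]
  · refine e _ (r := ((Cfsg.Spor.J4.x * Cfsg.Spor.J4.y * Cfsg.Spor.J4.x * Cfsg.Spor.J4.y * Cfsg.Spor.J4.x *
      (Cfsg.Spor.J4.y⁻¹)) ^ 3) * ((Cfsg.Spor.J4.x * Cfsg.Spor.J4.y * Cfsg.Spor.J4.x * (Cfsg.Spor.J4.y⁻¹) *
      Cfsg.Spor.J4.x * (Cfsg.Spor.J4.y⁻¹)) ^ 3)) (by simp [Cfsg.Spor.J4.extra]) ?_
    rw [wd_append, wd_rep, wd_rep, map_mul, map_pow, map_pow]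
    simp [wd, g0, hx, hy, mul_assoc]

end CfsgLib.J4M24
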