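import Cfsg.Agent.Lib.CosetEnum.Chain
import Cfsg.Agent.Lib.CosetEnum.LetterCert
import Cfsg.Agent.Lib.J4M24.Pres

/-!
Certificates whose letters stand for words in the two generators.
-/

set_option autoImplicit false

namespace CfsgLib.J4M24

open CfsgLib.CosetEnum

variable {G : Type} [Group G] {a b : G}

/-- The word of a local letter. -/
def letWord (vals : List (List ℕ)) (x : ℕ) : List ℕ := vals.getD x []

/-- The group element of a local letter. -/
def glet (a b : G) (vals : List (List ℕ)) (x : ℕ) : G := wd a b (letWord vals x)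

/-- A local word in the base letters. -/
def expand (vals : List (List ℕ)) (l : List ℕ) : List ℕ := l.flatMap (letWord vals)

theorem prod_glet (vals : List (List ℕ)) (l : List ℕ) :
    (l.map (glet a b vals)).prod = wd a b (expand vals l) := by
  induction l with
  | nil => rfl
  | cons a l ih =>
    simp only [List.map_cons, List.prod_cons, ih, expand, List.flatMap_cons, wd_append]
    rfl

/-- All letters are below `16`. -/
def small (w : List ℕ) : Bool := w.all fun a => Nat.blt a 16

theorem small_spec {w : List ℕ} (h : small w = true) : ∀ a ∈ w, a < 16 := fun a ha =>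
  Nat.le_of_ble_eq_true (List.all_eq_true.mp h a ha)

/-- The local letters respect their inverse table. -/
noncomputable def valsOK (vals : List (List ℕ)) (ip : ℕ) : Bool :=
  Nat.ble vals.length 15 && allFrom (fun x => small (letWord vals x) &&
    listEq (letWord vals (linv ip x)) (invWord ip0 (letWord vals x))) 16 0

theorem valsOK_15 {vals : List (List ℕ)} {ip : ℕ} (h : valsOK vals ip = true) : glet a b vals 15 = 1 := by
  simp only [valsOK, Bool.and_eq_true] at h
  rw [glet, letWord, List.getD_eq_default _ _ (Nat.le_of_ble_eq_true h.1), wd_nil]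

theorem valsOK_inv (hr : Rel a b) {vals : List (List ℕ)} {ip : ℕ} (h : valsOK vals ip = true) :
    ∀ x < 16, glet a b vals (linv ip x) = (glet a b vals x)⁻¹ := by
  intro x hx
  simp only [valsOK, Bool.and_eq_true] at h
  have h' := allFrom_spec _ _ _ h.2 x (Nat.zero_le _) (by omega)
  simp only [Bool.and_eq_true] at h'
  rw [glet, listEq_eq _ _ h'.2, wd_invWord hr _ (small_spec h'.1)]
  rfl

/-- A word is trivial, being either known or of the shape `u u⁻¹`. -/
noncomputable def trivOK (known : List (List ℕ)) (v : List ℕ) : Bool :=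
  known.any (fun k => listEq k v) ||
    (small v && listEq v (v.take (v.length / 2) ++ invWord ip0 (v.take (v.length / 2))))

theorem trivOK_spec (hr : Rel a b) {known : List (List ℕ)} (hk : ∀ w ∈ known, wd a b w = 1) {v : List ℕ}
    (h : trivOK known v = true) : wd a b v = 1 := by
  simp only [trivOK, Bool.or_eq_true, Bool.and_eq_true, List.any_eq_true] at h
  rcases h with ⟨k, hk1, hk2⟩ | ⟨h1, h2⟩
  · exact listEq_eq _ _ hk2 ▸ hk k hk1
  · rw [listEq_eq _ _ h2, wd_append,
      wd_invWord hr _ (fun i hi' => small_spec h1 i (List.mem_of_mem_take hi')), mul_inv_cancel]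

/-- The subgroup generated by the values of some words. -/
def gens (a b : G) (ws : List (List ℕ)) : Subgroup G := Subgroup.closure {z | ∃ w ∈ ws, z = wd a b w}

theorem gens_nil : gens a b [] = ⊥ := by
  simp [gens]

/-- The data of one enumeration, with its facts in chunks. -/
structure Data where
  /-- the words of the letters -/
  vals : List (List ℕ)
  /-- the inverse table -/
  ip : ℕ
  /-- the number of letters with a column in the table -/
  nl : ℕ
  /-- the relators in local letters -/
  ls : List (List ℕ)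
  /-- the subgroup words in local letters -/
  sub : List (List ℕ)
  /-- the certificate -/
  c : Letters.Cert

/-- The side conditions of a certificate, given known relations and the words of the subgroup. -/
noncomputable def Data.base (d : Data) (known Hw : List (List ℕ)) : Bool :=
  valsOK d.vals d.ip && d.ls.all (fun l => small l && trivOK known (expand d.vals l)) &&
    d.sub.all (fun l => small l && Hw.any (fun w => listEq w (expand d.vals l))) &&
    d.c.W.fits d.c.wb 16 && listEq (d.c.W.entries d.c.wb 16) (allCodes d.ip d.vals.length d.ls) &&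
    d.c.S.fits d.c.wb 16 && listEq (d.c.S.entries d.c.wb 16) (subCodes d.ip d.sub) &&
    Nat.beq (Letters.total d.c.items) d.c.nf

/-- The facts of a certificate hold. -/
theorem Data.holds (hr : Rel a b) (d : Data) {known Hw : List (List ℕ)} (hk : ∀ w ∈ known, wd a b w = 1)
    (hb : d.base known Hw = true) (hch : Letters.checkChunks d.ip d.c d.c.items 0 = true) :
    ∀ j < d.c.nf, Holds (glet a b d.vals) (gens a b Hw) (rep (glet a b d.vals) d.c.F)
      (fA (d.c.F.get 48 j)) (fX (d.c.F.get 48 j)) (fB (d.c.F.get 48 j)) := by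
  simp only [Data.base, Bool.and_eq_true] at hb
  obtain ⟨⟨⟨⟨⟨⟨⟨hv, hls⟩, hsub⟩, hWf⟩, hWe⟩, hSf⟩, hSe⟩, hnf⟩ := hb
  have hlen : d.vals.length ≤ 16 := by
    simp only [valsOK, Bool.and_eq_true] at hv
    exact le_trans (Nat.le_of_ble_eq_true hv.1) (by norm_num)
  refine holds_of_checked (H := gens a b Hw) (valsOK_15 hv) (valsOK_inv hr hv) d.c.F d.c.W d.c.wb d.c.S d.c.N d.c.nf
    (words_ok (valsOK_15 hv) (valsOK_inv hr hv) _ hlen d.ls ?_ d.c.W d.c.wb 16 hWf hWe)
    (subs_ok (valsOK_15 hv) (valsOK_inv hr hv) _ d.sub ?_ d.c.S d.c.wb 16 hSf hSe)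
    (fun i hi => Letters.checkChunks_spec d.ip d.c _ 0 hch i (Nat.zero_le _)
      (by rw [← Letters.total_eq, Nat.eq_of_beq_eq_true hnf]; omega))
  · intro l hl
    have h := List.all_eq_true.mp hls l hl
    simp only [Bool.and_eq_true] at h
    exact ⟨small_spec h.1, (prod_glet _ _).trans (trivOK_spec hr hk h.2)⟩
  · intro l hl
    have h := List.all_eq_true.mp hsub l hl
    simp only [Bool.and_eq_true, List.any_eq_true] at h
    obtain ⟨h1, w, hw1, hw2⟩ := h
    refine ⟨small_spec h1, ?_⟩
    rw [prod_glet, ← listEq_eq _ _ hw2]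
    exact Subgroup.subset_closure ⟨w, hw1, rfl⟩

/-- The table of a certificate and the generators `Kw` of the bigger subgroup. -/
noncomputable def Data.table (d : Data) (Kw : List (List ℕ)) : Bool :=
  Nat.beq d.c.T.length d.nl && Nat.ble d.nl 16 && Nat.blt 0 d.c.n && Nat.beq (d.c.L.get 20 0) 0 &&
    allFrom (fun x => Nat.blt (linv d.ip x) d.nl) d.nl 0 &&
    Kw.all (fun w => (List.range d.nl).any fun x => listEq (letWord d.vals x) w) &&
    allFrom (fun k => checkRow d.c.F d.ip d.c.L d.c.E d.c.n d.nl d.c.nf k d.c.T 0) d.c.n 0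

/-- The coset bound given by a certificate. -/
theorem Data.covers (hr : Rel a b) (d : Data) {known Hw Kw : List (List ℕ)} (hk : ∀ w ∈ known, wd a b w = 1)
    (hb : d.base known Hw = true) (hch : Letters.checkChunks d.ip d.c d.c.items 0 = true)
    (ht : d.table Kw = true) : CoversCosets (gens a b Kw) (gens a b Hw) d.c.n := by
  have hfacts := d.holds hr hk hb hch
  simp only [Data.base, Bool.and_eq_true] at hb
  have hv := hb.1.1.1.1.1.1.1
  have hinv := valsOK_inv hr hv
  simp only [Data.table, Bool.and_eq_true] at ht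
  obtain ⟨⟨⟨⟨⟨⟨hT, hnl⟩, hn⟩, hL⟩, hcl⟩, hK⟩, hrows⟩ := ht
  have hT := Nat.eq_of_beq_eq_true hT
  have hnl := Nat.le_of_ble_eq_true hnl
  have hcl : ∀ x < d.nl, linv d.ip x < d.nl := fun x hx =>
    Nat.le_of_ble_eq_true (allFrom_spec _ _ _ hcl x (Nat.zero_le _) (by omega))
  set g := glet a b d.vals
  refine ⟨fun k => rep g d.c.F (d.c.L.get 20 k), fun z hz => ?_⟩
  have step : ∀ x < d.nl, ∀ w : G, (∃ k < d.c.n, w * (rep g d.c.F (d.c.L.get 20 k))⁻¹ ∈ gens a b Hw) →
      ∃ k < d.c.n, w * g x * (rep g d.c.F (d.c.L.get 20 k))⁻¹ ∈ gens a b Hw := by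
    intro x hx w ⟨k, hk, hw⟩
    have he := checkRow_spec d.c.F d.ip d.c.L d.c.E d.c.n d.nl d.c.nf k d.c.T 0
      (allFrom_spec _ _ _ hrows k (Nat.zero_le _) (by omega)) x (by omega)
    rw [Nat.zero_add] at he
    unfold checkEntry at he
    simp only [strict_eq, Bool.and_eq_true] at he
    obtain ⟨hk', hf, he⟩ := he
    set f := (d.c.E.get 24 (k * d.nl + x) - 1) >>> 1
    have hf : f < d.c.nf := Nat.le_of_ble_eq_true hf
    refine ⟨_, Nat.le_of_ble_eq_true hk', ?_⟩
    have hD := hfacts f hf
    suffices key : Holds g (gens a b Hw) (rep g d.c.F) (d.c.L.get 20 k) x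
        (d.c.L.get 20 ((d.c.T[x]'(by omega)).get 20 k)) by
      have := (gens a b Hw).mul_mem hw key
      simpa [Holds, mul_assoc] using this
    rcases hd : Nat.beq ((d.c.E.get 24 (k * d.nl + x) - 1) &&& 1) 0 with _ | _
    · rw [hd] at he
      simp only [Bool.and_eq_true] at he
      obtain ⟨⟨h1, h2⟩, h3⟩ := he
      have := hD.symm hinv (fX_lt _)
      rwa [Nat.eq_of_beq_eq_true h1, Nat.eq_of_beq_eq_true h2, Nat.eq_of_beq_eq_true h3] at this
    · rw [hd] at he
      simp only [Bool.and_eq_true] at he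
      obtain ⟨⟨h1, h2⟩, h3⟩ := he
      rwa [Nat.eq_of_beq_eq_true h1, Nat.eq_of_beq_eq_true h2, Nat.eq_of_beq_eq_true h3] at hD
  have hz' : z ∈ Subgroup.closure (g '' Set.Iio d.nl) := by
    refine Subgroup.closure_mono ?_ hz
    rintro _ ⟨w, hw, rfl⟩
    obtain ⟨x, hx, hxw⟩ := List.any_eq_true.mp (List.all_eq_true.mp hK w hw)
    exact ⟨x, List.mem_range.mp hx, by show wd a b (letWord d.vals x) = wd a b w; rw [listEq_eq _ _ hxw]⟩
  clear hz
  induction hz' using Subgroup.closure_induction_right with
  | one => exact ⟨0, Nat.le_of_ble_eq_true hn,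
      by simp only; rw [Nat.eq_of_beq_eq_true hL, rep]; simp [(gens a b Hw).one_mem]⟩
  | mul_right w _ y hy ih =>
    obtain ⟨x, hx, rfl⟩ := hy
    exact step x hx w ih
  | mul_inv_cancel w _ y hy ih =>
    obtain ⟨x, hx, rfl⟩ := hy
    have hx' : x < d.nl := hx
    rw [← hinv x (by omega)]
    exact step _ (hcl x hx') w ih

/-- A word whose path closes up at node `k`. -/
noncomputable def Data.closes (d : Data) (w : List ℕ) (k path : ℕ) : Bool :=
  small w && walk d.c.F d.ip d.c.nf (fun cur acc rest => Nat.beq cur k && Nat.beq rest 0 && Nat.beq acc (codeOf w))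
    1024 k 1 path

/-- A closed path over the trivial subgroup gives a relation. -/
theorem Data.word_one (hr : Rel a b) (d : Data) {known : List (List ℕ)} (hk : ∀ w ∈ known, wd a b w = 1)
    (hb : d.base known [] = true) (hch : Letters.checkChunks d.ip d.c d.c.items 0 = true)
    {w : List ℕ} {k path : ℕ} (hc : d.closes w k path = true) : wd a b (expand d.vals w) = 1 := by
  have hfacts := d.holds hr hk hb hch
  simp only [Data.base, Bool.and_eq_true] at hb
  have hv := hb.1.1.1.1.1.1.1
  simp only [Data.closes, Bool.and_eq_true] at hc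
  obtain ⟨hw, hwalk⟩ := hc
  obtain ⟨c, acc, p, h1, -, h2⟩ := walk_sound (valsOK_15 hv) (valsOK_inv hr hv) d.c.F d.c.nf _ hfacts _ _ _ _ le_rfl hwalk
  simp only [Bool.and_eq_true] at h1
  obtain ⟨⟨hck, -⟩, ha⟩ := h1
  have h3 := (h2 (rep (glet a b d.vals) d.c.F k)).mp (by rw [evalCode_one]; simp [(gens a b ([] : List (List ℕ))).one_mem])
  rw [Nat.eq_of_beq_eq_true hck, Nat.eq_of_beq_eq_true ha,
    evalCode_codeOf (valsOK_15 hv) w (small_spec hw), prod_glet, gens_nil, Subgroup.mem_bot] at h3
  have h4 := mul_inv_eq_one.mp h3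
  exact mul_left_cancel (h4.trans (mul_one _).symm)

end CfsgLib.J4M24
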