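import Cfsg.Agent.Lib.J4M24.Q0
import Cfsg.Agent.Lib.J4M24.S1
import Cfsg.Agent.Lib.J4M24.S2
import Cfsg.Agent.Lib.J4M24.S3
import Cfsg.Agent.Lib.J4M24.S4
import Cfsg.Agent.Lib.J4M24.S5
import Cfsg.Agent.Lib.J4M24.Top
import Cfsg.Agent.Lib.J4M24.Rep
import Cfsg.Agent.Lib.Golay.Simple

/-!
The subgroup of the presented group `J4` generated by `x` and `y` is the Mathieu group on 24 points.
-/

set_option autoImplicit false

namespace CfsgLib.J4M24

open Cfsg CfsgLib.CosetEnum

section Bound

variable {G : Type} [Group G] {a b : G}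

theorem gens_y_card (hr : Rel a b) : Finite (gens a b [[1]]) ∧ Nat.card (gens a b [[1]]) ≤ 3 := by
  have h : b ^ 3 = 1 := by simpa [wd, g0, pow_succ, mul_assoc] using hr [1, 1, 1] (by simp [rels])
  have he : gens a b [[1]] = Subgroup.zpowers b := by
    rw [gens, Subgroup.zpowers_eq_closure]
    congr 1
    ext z
    simp [wd, g0]
  rw [he]
  have hf : IsOfFinOrder b := isOfFinOrder_iff_pow_eq_one.mpr ⟨3, by norm_num, h⟩
  exact ⟨hf.finite_zpowers.to_subtype, by
    rw [Nat.card_zpowers]; exact orderOf_le_of_pow_eq_one (by norm_num) h⟩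

/-- Two elements satisfying the seven relations generate at most `244823040` elements. -/
theorem gens_card (hr : Rel a b) :
    Finite (gens a b [[0], [1]]) ∧ Nat.card (gens a b [[0], [1]]) ≤ 244823040 := by
  have h1 := card_le_step (m := 60) (S1.covers hr) (gens_y_card hr) (by norm_num)
  have h2 := card_le_step (m := 360) (S2.covers hr) h1 (by norm_num)
  have h3 := card_le_step (m := 5760) (S3.covers hr) h2 (by norm_num)
  have h4 := card_le_step (m := 40320) (S4.covers hr) h3 (by norm_num)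
  have h5 := card_le_step (m := 322560) (S5.covers hr) h4 (by norm_num)
  exact card_le_step (m := 244823040) (Top.covers hr) h5 (by norm_num)

theorem gens_xy : gens a b [[0], [1]] = Subgroup.closure {a, b} := by
  rw [gens]
  congr 1
  ext z
  simp [wd, g0]

theorem wd_map {H : Type} [Group H] (f : G →* H) (w : List ℕ) : f (wd a b w) = wd (f a) (f b) w := by
  rw [wd, wd, map_list_prod, List.map_map]
  congr 1
  refine List.map_congr_left fun i _ => ?_
  rcases i with _ | _ | _ | i <;> simp [g0]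

end Bound

/-- A permutation from a code and a code of its inverse. -/
noncomputable def permOfCode (c d : ℕ) (h₁ : ∀ p, Golay.pt (Golay.app d (Golay.bit (Golay.pt (Golay.app c (Golay.bit p))))) = p)
    (h₂ : ∀ p, Golay.pt (Golay.app c (Golay.bit (Golay.pt (Golay.app d (Golay.bit p))))) = p) :
    Equiv.Perm GolayPt where
  toFun p := Golay.pt (Golay.app c (Golay.bit p))
  invFun p := Golay.pt (Golay.app d (Golay.bit p))
  left_inv := h₁
  right_inv := h₂

/-- The permutation for `x`. -/
noncomputable def sx : Equiv.Perm GolayPt :=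
  permOfCode 0x30a100c010b14020408131115050d0607090e160f1217 0x30a100c010b14020408131115050d0607090e160f1217 (by decide +kernel) (by decide +kernel)

/-- The permutation for `y`. -/
noncomputable def sy : Equiv.Perm GolayPt :=
  permOfCode 0xb0910130c0e12010f110d14020a08160704060503171500 0x208010c14110e150f120d13170a160907050406030b1000 (by decide +kernel) (by decide +kernel)

theorem sx_mem : sx ∈ M24 :=
  Golay.mem_M24_of_inM24 (c := 0x30a100c010b14020408131115050d0607090e160f1217) (by unfold Golay.IsPermOf; decide +kernel) (by decide +kernel)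

theorem sy_mem : sy ∈ M24 :=
  Golay.mem_M24_of_inM24 (c := 0xb0910130c0e12010f110d14020a08160704060503171500) (by unfold Golay.IsPermOf; decide +kernel) (by decide +kernel)

theorem rel_perm : Rel sx sy := by
  have h : ∀ w ∈ rels, ∀ p, wd sx sy w p = p := by decide +kernel
  exact fun w hw => Equiv.ext (h w hw)

theorem words_eq :
    (∀ p, wd sx sy [1, 0, 2, 0, 2, 0, 1, 0, 1, 0, 1, 0, 2, 0, 1, 0, 2, 0, 1, 0, 2, 0, 1, 0, 2, 0, 2, 0, 1, 0, 2, 0, 1, 0, 1, 0, 2, 0, 1, 0, 1, 0, 1, 0, 2, 0, 2, 0, 1] p = Equiv.optionCongr (Equiv.addRight (1 : ZMod 23)) p) ∧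
      (∀ p, wd sx sy [0, 1, 0, 2, 0, 2, 0, 2, 0, 2, 0, 1, 0, 1, 0, 1, 0, 2, 0, 2, 0, 1, 0, 1, 0, 2, 0, 2, 0, 2, 0, 2, 0, 2, 0, 2, 0, 1, 0, 2, 0, 1, 0, 2, 0, 1, 0, 1, 0, 2, 0, 1, 0, 2, 0, 1, 0] p = Cfsg.projInv p) ∧
      (∀ p, wd sx sy [2, 0, 2, 0, 1, 0, 2, 0, 1, 0, 2, 0, 1, 0, 1, 0, 1, 0, 1, 0, 2, 0, 2, 0, 2, 0, 1, 0, 1, 0, 2, 0, 2, 0, 1, 0, 1, 0, 1, 0, 2, 0, 1, 0] p = Cfsg.cubeTwist p) := by
  decide +kernel

theorem wd_mem {G : Type} [Group G] {a b : G} (w : List ℕ) : wd a b w ∈ Subgroup.closure ({a, b} : Set G) := by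
  refine Subgroup.list_prod_mem _ fun z hz => ?_
  obtain ⟨i, -, rfl⟩ := List.mem_map.mp hz
  rcases i with _ | _ | _ | i
  · exact Subgroup.subset_closure (by simp [g0])
  · exact Subgroup.subset_closure (by simp [g0])
  · exact Subgroup.inv_mem _ (Subgroup.subset_closure (by simp))
  · exact Subgroup.one_mem _

theorem closure_sxy : Subgroup.closure ({sx, sy} : Set (Equiv.Perm GolayPt)) = M24 := by
  refine le_antisymm ((Subgroup.closure_le _).mpr ?_) ?_
  · rintro z (rfl | rfl)
    exacts [sx_mem, sy_mem]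
  · rw [← Golay.M24_eq_genGroup, Subgroup.closure_le]
    obtain ⟨h1, h2, h3⟩ := words_eq
    rintro z (rfl | rfl | rfl)
    · rw [← Equiv.ext h1]; exact wd_mem _
    · rw [← Equiv.ext h2]; exact wd_mem _
    · rw [← Equiv.ext h3]; exact wd_mem _

/-- The pairs. -/
noncomputable abbrev pa : J × Equiv.Perm GolayPt := (gx, sx)

/-- The pairs. -/
noncomputable abbrev pb : J × Equiv.Perm GolayPt := (gy, sy)

theorem rel_pair : Rel pa pb := by
  intro w hw
  have e1 := wd_map (a := pa) (b := pb) (MonoidHom.fst J (Equiv.Perm GolayPt)) w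
  have e2 := wd_map (a := pa) (b := pb) (MonoidHom.snd J (Equiv.Perm GolayPt)) w
  simp only [MonoidHom.coe_fst, MonoidHom.coe_snd] at e1 e2
  exact Prod.ext (e1.trans (rel_J4 w hw)) (e2.trans (rel_perm w hw))

/-- The isomorphism. -/
theorem closure_iso : Nonempty (Subgroup.closure ({gx, gy} : Set J) ≃* M24) := by
  set D : Subgroup (J × Equiv.Perm GolayPt) := Subgroup.closure {pa, pb} with hD
  have hc : Finite D ∧ Nat.card D ≤ 244823040 := by
    have := gens_card rel_pair
    rwa [gens_xy, ← hD] at this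
  obtain ⟨hfin, hle⟩ := hc
  have hs : D.map (MonoidHom.snd J (Equiv.Perm GolayPt)) = M24 := by
    rw [hD, MonoidHom.map_closure, Set.image_pair]; exact closure_sxy
  have hf : D.map (MonoidHom.fst J (Equiv.Perm GolayPt)) = Subgroup.closure {gx, gy} := by
    rw [hD, MonoidHom.map_closure, Set.image_pair]; rfl
  set f := (MonoidHom.snd J (Equiv.Perm GolayPt)).subgroupMap D
  have hsurj : Function.Surjective f := MonoidHom.subgroupMap_surjective _ _
  have hcard : Nat.card (D.map (MonoidHom.snd J (Equiv.Perm GolayPt))) = 244823040 := by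
    rw [hs]; exact Golay.card_M24
  have hbij : Function.Bijective f :=
    (Nat.bijective_iff_surjective_and_card f).mpr
      ⟨hsurj, le_antisymm (by omega) (Nat.card_le_card_of_surjective f hsurj)⟩
  let e : D ≃* M24 := (MulEquiv.ofBijective f hbij).trans (MulEquiv.subgroupCongr hs)
  have := Golay.isSimple_M24
  have hsimple : IsSimpleGroup D := e.isSimpleGroup
  set g := (MonoidHom.fst J (Equiv.Perm GolayPt)).subgroupMap D
  have hg : Function.Injective g := by
    rw [← MonoidHom.ker_eq_bot_iff]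
    refine (MonoidHom.normal_ker g).eq_bot_or_eq_top.resolve_right fun h => ?_
    have hx : (⟨pa, Subgroup.subset_closure (by simp)⟩ : D) ∈ g.ker := h ▸ Subgroup.mem_top _
    exact Rep.x_ne_one (congrArg Subtype.val (MonoidHom.mem_ker.mp hx))
  exact ⟨((MulEquiv.ofBijective g ⟨hg, MonoidHom.subgroupMap_surjective _ _⟩).trans
    (MulEquiv.subgroupCongr hf)).symm.trans e⟩

end CfsgLib.J4M24
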