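import Cfsg.Agent.Lib.CosetEnum.Table
import Cfsg.Prelude.Def_Spor_J4

/-!
Matrices over the field with two elements as lists of rows, stored as differences from the identity, acting on
natural numbers read as bit vectors.
-/

set_option autoImplicit false

namespace CfsgLib.J4M24.Mat

open CfsgLib.CosetEnum

/-- Add the rows selected by the bits of a number. -/
noncomputable def app : List ℕ → ℕ → ℕ :=
  fun D => List.rec (fun _ => 0)
    (fun r _ ih v => strict v fun v => Nat.xor (Bool.rec r 0 (Nat.beq (v % 2) 0)) (ih (v / 2))) D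

theorem app_nil (v : ℕ) : app [] v = 0 := rfl

theorem app_cons (r : ℕ) (D : List ℕ) (v : ℕ) :
    app (r :: D) v = (if v % 2 = 0 then 0 else r) ^^^ app D (v / 2) := by
  rw [show app (r :: D) v = strict v fun v => Nat.xor (Bool.rec r 0 (Nat.beq (v % 2) 0)) (app D (v / 2)) from rfl,
    strict_eq]
  rcases h : Nat.beq (v % 2) 0 with _ | _
  · rw [if_neg (fun h' => by simp [h'] at h)]; rfl
  · rw [if_pos (Nat.eq_of_beq_eq_true h)]; rfl

theorem app_zero (D : List ℕ) : app D 0 = 0 := by
  induction D with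
  | nil => rfl
  | cons r D ih => simp [app_cons, ih]

theorem app_xor (D : List ℕ) : ∀ u v : ℕ, app D (u ^^^ v) = app D u ^^^ app D v := by
  induction D with
  | nil => intro u v; simp [app_nil]
  | cons r D ih =>
    intro u v
    rw [app_cons, app_cons, app_cons, Nat.xor_div_two, ih]
    have h : (u ^^^ v) % 2 = (u % 2 + v % 2) % 2 := by
      rw [Nat.xor_mod_two_eq]; omega
    rcases Nat.mod_two_eq_zero_or_one u with hu | hu <;> rcases Nat.mod_two_eq_zero_or_one v with hv | hv <;>
      simp [h, hu, hv, Nat.xor_assoc, Nat.xor_left_comm]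

/-- The product of two difference lists: first `A`, then `B`. -/
noncomputable def dmul (B : List ℕ) : List ℕ → List ℕ → List ℕ :=
  fun A Bl => List.zipWith (fun a b => a ^^^ b ^^^ app B a) A Bl

theorem app_dmul (B : List ℕ) : ∀ (A Bl : List ℕ), A.length = Bl.length → ∀ v : ℕ,
    app (dmul B A Bl) v = app A v ^^^ app Bl v ^^^ app B (app A v) := by
  intro A
  induction A with
  | nil => intro Bl h v; cases Bl with
    | nil => simp [dmul, app_nil, app_zero]
    | cons => simp at h
  | cons a A ih => intro Bl h v; cases Bl with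
    | nil => simp at h
    | cons b Bl =>
      have h' : app (dmul B A Bl) (v / 2) = _ := ih Bl (by simpa using h) (v / 2)
      rw [show dmul B (a :: A) (b :: Bl) = (a ^^^ b ^^^ app B a) :: dmul B A Bl from rfl, app_cons, app_cons,
        app_cons, h', app_xor]
      rcases Nat.mod_two_eq_zero_or_one v with hv | hv <;>
        simp [hv, app_zero, Nat.xor_assoc, Nat.xor_comm, Nat.xor_left_comm]

/-- `σ` adds `app D v` to `v`. -/
def IsMat (σ : Equiv.Perm ℕ) (D : List ℕ) : Prop := D.length = 112 ∧ ∀ v, σ v = v ^^^ app D v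

/-- `C` is the product: first `A`, then `B`. -/
noncomputable def isMul (A B C : List ℕ) : Bool := listEq (dmul B A B) C

theorem app_of_isMul {A B C : List ℕ} (hA : A.length = 112) (hB : B.length = 112) (h : isMul A B C = true)
    (v : ℕ) : C.length = 112 ∧ (v ^^^ app A v) ^^^ app B (v ^^^ app A v) = v ^^^ app C v := by
  have hC := listEq_eq _ _ h
  subst hC
  refine ⟨by simp [dmul, hA, hB], ?_⟩
  rw [app_dmul B A B (hA.trans hB.symm), app_xor]
  simp [Nat.xor_assoc]

theorem IsMat.mul {σ τ : Equiv.Perm ℕ} {A B C : List ℕ} (hσ : IsMat σ A) (hτ : IsMat τ B)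
    (h : isMul B A C = true) : IsMat (σ * τ) C :=
  ⟨(app_of_isMul hτ.1 hσ.1 h 0).1, fun v => by
    rw [Equiv.Perm.mul_apply, hσ.2, hτ.2]; exact (app_of_isMul hτ.1 hσ.1 h v).2⟩

/-- The zero list. -/
def zeros : List ℕ := List.replicate 112 0

theorem app_zeros (v : ℕ) : app zeros v = 0 := by
  unfold zeros
  generalize 112 = n
  induction n generalizing v with
  | zero => rfl
  | succ n ih => rw [List.replicate_succ, app_cons, ih]; simp

theorem IsMat.inv {σ : Equiv.Perm ℕ} {A B : List ℕ} (hσ : IsMat σ A) (hB : B.length = 112)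
    (h : isMul B A zeros = true) : IsMat σ⁻¹ B := by
  refine ⟨hB, fun v => ?_⟩
  rw [Equiv.Perm.inv_def, Equiv.symm_apply_eq, hσ.2, (app_of_isMul hB hσ.1 h v).2, app_zeros, Nat.xor_zero]

theorem IsMat.eq_one {σ : Equiv.Perm ℕ} (h : IsMat σ zeros) : σ = 1 :=
  Equiv.ext fun v => by simp [h.2, app_zeros]

/-- The permutation of a matrix with a given inverse. -/
noncomputable def toPerm (A B : List ℕ) (hA : A.length = 112) (hB : B.length = 112)
    (h₁ : isMul A B zeros = true) (h₂ : isMul B A zeros = true) : Equiv.Perm ℕ where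
  toFun v := v ^^^ app A v
  invFun v := v ^^^ app B v
  left_inv v := by simp only; rw [(app_of_isMul hA hB h₁ v).2, app_zeros, Nat.xor_zero]
  right_inv v := by simp only; rw [(app_of_isMul hB hA h₂ v).2, app_zeros, Nat.xor_zero]

/-- `r` maps to the matrix `D`. -/
def Maps (φ : FreeGroup Cfsg.Spor.J4.Gen →* Equiv.Perm ℕ) (r : FreeGroup Cfsg.Spor.J4.Gen) (D : List ℕ) : Prop :=
  IsMat (φ r) D

variable {φ : FreeGroup Cfsg.Spor.J4.Gen →* Equiv.Perm ℕ} {r s : FreeGroup Cfsg.Spor.J4.Gen} {A B C : List ℕ}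

theorem Maps.mul (hr : Maps φ r A) (hs : Maps φ s B) (h : isMul B A C = true) : Maps φ (r * s) C := by
  rw [Maps, map_mul]; exact IsMat.mul hr hs h

theorem Maps.inv (hr : Maps φ r A) (hB : B.length = 112) (h : isMul B A zeros = true) : Maps φ r⁻¹ B := by
  rw [Maps, map_inv]; exact IsMat.inv hr hB h

theorem Maps.pow_one (hr : Maps φ r A) : Maps φ (r ^ 1) A := by
  rw [_root_.pow_one]; exact hr

theorem Maps.pow_add {i j n : ℕ} (hn : i + j = n) (hi : Maps φ (r ^ i) A) (hj : Maps φ (r ^ j) B)
    (h : isMul B A C = true) : Maps φ (r ^ n) C := by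
  rw [← hn, _root_.pow_add]; exact hi.mul hj h

end CfsgLib.J4M24.Mat
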